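import Groth.Prelude.Def_FEt
import Groth.Agent.Pi1A.SteinCover
import Groth.Agent.Pi1A.ConnFibres
import Groth.Agent.Pi1C.StrictHensPoint
import Groth.Agent.S0388
import Groth.Agent.S0981
import Groth.Agent.S1327
import Groth.Agent.S0114
import Groth.Agent.S1128

/-!
# Restriction to a geometric fibre over a strictly henselian base is fully faithful
-/

set_option autoImplicit false

universe u

open CategoryTheory CategoryTheory.Limits AlgebraicGeometry

namespace Groth.Agent.Pi1.H381.SpecConn

/-- Stein factorization of a flat proper morphism of finite presentation with geometrically reduced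
fibres, all inputs discharged. -/
theorem stein {Y S : Scheme.{u}} (g : Y ⟶ S) [IsProper g] [Flat g] [LocallyOfFinitePresentation g]
    [GeometricallyReduced g] :
    IsFinite g.fromNormalization ∧ Etale g.fromNormalization ∧ Flat g.toNormalization ∧
      LocallyOfFinitePresentation g.toNormalization ∧ Surjective g.toNormalization ∧
      GeometricallyConnected g.toNormalization :=
  Groth.Agent.Pi1A.SteinEtale.main
    (fun f _ => Groth.Agent.S0388.result f)
    (fun f s hs _ _ _ _ y hy => Groth.Agent.S1327.result f s hs y hy)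
    (fun f _ _ _ h V => Groth.Agent.S0981.result f h V)
    (fun f q _ _ _ _ => Groth.Agent.S0114.result f q)
    (fun f g _ _ _ => Groth.Agent.S1128.result f g) g

theorem connectedSpace_spec (A : Type u) [CommRing A] [IsLocalRing A] :
    ConnectedSpace ↥(Spec (CommRingCat.of A)) := by
  have hne : Nonempty ↥(Spec (CommRingCat.of A)) := ⟨IsLocalRing.closedPoint A⟩
  have : PreconnectedSpace ↥(Spec (CommRingCat.of A)) := by
    rw [preconnectedSpace_iff_clopen]
    intro s hs
    by_cases h : (IsLocalRing.closedPoint A : PrimeSpectrum A) ∈ s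
    · right
      rw [Set.eq_univ_iff_forall]
      intro x
      have h2 : x ⤳ IsLocalRing.closedPoint A := IsLocalRing.specializes_closedPoint _
      exact h2.mem_open hs.isOpen h
    · left
      rw [Set.eq_empty_iff_forall_notMem]
      intro x hx
      have h2 : x ⤳ IsLocalRing.closedPoint A := IsLocalRing.specializes_closedPoint _
      exact h (h2.mem_closed hs.isClosed hx)
  exact ⟨hne⟩

/-- The range of a section of a finite etale morphism is clopen. -/
theorem isClopen_range_section {N B : Scheme.{u}} (p : N ⟶ B) (hp : FEt.prop p) (τ : B ⟶ N)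
    (hτ : τ ≫ p = 𝟙 B) : IsClopen (Set.range τ) := by
  have h0 : FEt.prop τ :=
    Groth.Agent.Pi1A.SteinCover.prop_of_comp τ p (by rw [hτ]; exact FEt.prop.id_mem _) hp
  have h1 : IsFinite τ := h0.1
  have h2 : Etale τ := h0.2
  have h3 : Mono τ := mono_of_mono_fac hτ
  have h4 : IsOpenImmersion τ := IsOpenImmersion.of_flat_of_mono τ
  exact ⟨τ.isClosedMap.isClosed_range, τ.isOpenEmbedding.isOpen_range⟩

/-- Clopen subsets of a finite etale cover of a geometric fibre of a flat proper morphism with
geometrically reduced fibres over a strictly henselian local ring come from clopen subsets of the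
total space. -/
theorem exists_isClopen {A : Type u} [CommRing A] [HenselianLocalRing A]
    [IsSepClosed (IsLocalRing.ResidueField A)] {Z : Scheme.{u}} (g : Z ⟶ Spec (CommRingCat.of A))
    [IsProper g] [Flat g] [LocallyOfFinitePresentation g] [GeometricallyReduced g]
    {Ω : Type u} [Field Ω] (t : Spec (CommRingCat.of Ω) ⟶ Spec (CommRingCat.of A))
    {Zt : Scheme.{u}} (q : Zt ⟶ Z) (r : Zt ⟶ Spec (CommRingCat.of Ω)) (sq : IsPullback q r g t)
    (V : Set Zt) (hV : IsClopen V) : ∃ U : Set Z, IsClopen U ∧ q ⁻¹' U = V := by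
  obtain ⟨hp1, hp2, hh1, hh2, hh3, hh4⟩ := stein g
  let p := g.fromNormalization
  let h := g.toNormalization
  have hp : FEt.prop p := ⟨hp1, hp2⟩
  have w : h ≫ p = g := g.toNormalization_fromNormalization
  let m : Spec (CommRingCat.of A) := IsLocalRing.closedPoint A
  -- sections through the points of the closed fibre
  have hsec : ∀ y : g.normalization, p y = m → ∃ τ : Spec (CommRingCat.of A) ⟶ g.normalization,
      τ ≫ p = 𝟙 _ ∧ τ m = y := by
    intro y hy
    exact Groth.Agent.Pi1C.StrictHensPoint.exists_lift_of_etale p y A (𝟙 _) (by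
      rw [hy]; rfl)
  have hA : ConnectedSpace ↥(Spec (CommRingCat.of A)) := connectedSpace_spec A
  let B := Spec (CommRingCat.of A)
  have hchoice : ∃ τ : g.normalization → (B ⟶ g.normalization), ∀ y, p y = m →
      τ y ≫ p = 𝟙 _ ∧ τ y m = y := by
    classical
    by_cases hne : ∃ y₀ : g.normalization, p y₀ = m
    · obtain ⟨y₀, hy₀⟩ := hne
      refine ⟨fun y => if hy : p y = m then (hsec y hy).choose else (hsec y₀ hy₀).choose,
        fun y hy => ?_⟩
      simp only [hy, dif_pos]
      exact (hsec y hy).choose_spec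
    · by_cases h2 : Nonempty (B ⟶ g.normalization)
      · exact ⟨fun _ => h2.some, fun y hy => (hne ⟨y, hy⟩).elim⟩
      · have : IsEmpty g.normalization := ⟨fun n => by
          have hcl : IsClosed (p '' closure {n}) := p.isClosedMap _ isClosed_closure
          have h1 : p n ∈ p '' closure {n} := ⟨n, subset_closure rfl, rfl⟩
          have h2 : p n ⤳ m := IsLocalRing.specializes_closedPoint _
          obtain ⟨y, -, hy⟩ := h2.mem_closed hcl h1
          exact hne ⟨y, hy⟩⟩
        exact ⟨fun y => (IsEmpty.false y).elim, fun y => (IsEmpty.false y).elim⟩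
  obtain ⟨τ, hτ⟩ := hchoice
  have hτ1 : ∀ y, p y = m → τ y ≫ p = 𝟙 _ := fun y hy => (hτ y hy).1
  have hτ2 : ∀ y, p y = m → τ y m = y := fun y hy => (hτ y hy).2
  have hclopen : ∀ y : g.normalization, p y = m → IsClopen (Set.range (τ y)) := fun y hy =>
    isClopen_range_section p hp (τ y) (hτ1 y hy)
  -- every point lies in one of the ranges
  have hcover : ∀ n : g.normalization, ∃ y, p y = m ∧ n ∈ Set.range (τ y) := by
    intro n
    have hcl : IsClosed (p '' closure {n}) := p.isClosedMap _ isClosed_closure
    have hmem : m ∈ p '' closure {n} := by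
      have h1 : p n ∈ p '' closure {n} := ⟨n, subset_closure rfl, rfl⟩
      have h2 : p n ⤳ m := IsLocalRing.specializes_closedPoint _
      exact h2.mem_closed hcl h1
    obtain ⟨y, hy1, hy2⟩ := hmem
    refine ⟨y, hy2, ?_⟩
    have h3 : n ⤳ y := specializes_iff_mem_closure.2 hy1
    exact h3.mem_open (hclopen y hy2).isOpen ⟨m, hτ2 y hy2⟩
  -- the preimages in the geometric fibre are preconnected
  have hconn : ∀ y, p y = m → _root_.IsPreconnected ((q ≫ h) ⁻¹' Set.range (τ y)) := by
    intro y hy
    have hgc : GeometricallyConnected (pullback.snd h (τ y)) :=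
      MorphismProperty.pullback_snd (P := @GeometricallyConnected) _ _ hh4
    have e1 : IsPullback (pullback.fst (q ≫ h) (τ y)) (pullback.snd (q ≫ h) (τ y)) (q ≫ h) (τ y) :=
      IsPullback.of_hasPullback _ _
    have e2 : IsPullback (pullback.fst h (τ y)) (pullback.snd h (τ y)) h (τ y) :=
      IsPullback.of_hasPullback _ _
    let l : pullback (q ≫ h) (τ y) ⟶ pullback h (τ y) :=
      pullback.lift (pullback.fst _ _ ≫ q) (pullback.snd _ _) (by
        rw [Category.assoc]; exact pullback.condition)
    have hl1 : l ≫ pullback.fst h (τ y) = pullback.fst _ _ ≫ q := pullback.lift_fst _ _ _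
    have hl2 : l ≫ pullback.snd h (τ y) = pullback.snd _ _ := pullback.lift_snd _ _ _
    have e3 : IsPullback l (pullback.fst (q ≫ h) (τ y)) (pullback.fst h (τ y)) q := by
      refine IsPullback.of_right (h₁₂ := pullback.snd h (τ y)) (v₁₃ := τ y) (h₂₂ := h) ?_ hl1 e2.flip
      rw [hl2]
      exact e1.flip
    have e4 : IsPullback l (pullback.fst (q ≫ h) (τ y) ≫ r) (pullback.fst h (τ y) ≫ g) t :=
      e3.paste_vert sq
    have hg : pullback.fst h (τ y) ≫ g = pullback.snd h (τ y) := by
      calc pullback.fst h (τ y) ≫ g = pullback.fst h (τ y) ≫ h ≫ p := by rw [w]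
        _ = pullback.snd h (τ y) ≫ τ y ≫ p := by rw [pullback.condition_assoc]
        _ = _ := by rw [hτ1 y hy, Category.comp_id]
    rw [hg] at e4
    have hc : ConnectedSpace ↥(pullback (pullback.snd h (τ y)) t) :=
      pullback_of_geometrically GeometricallyConnected.geometrically_connectedSpace Ω t
    have hc2 : ConnectedSpace ↥(pullback (q ≫ h) (τ y)) :=
      (e4.isoPullback.hom.homeomorph.connectedSpace_iff).mpr hc
    rw [← Scheme.Pullback.range_fst, ← Set.image_univ]
    exact isPreconnected_univ.image _ (pullback.fst (q ≫ h) (τ y)).continuous.continuousOn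
  -- the clopen subset
  let G : Set g.normalization := {n | ∃ y, p y = m ∧ n ∈ Set.range (τ y) ∧
    (q ≫ h) ⁻¹' Set.range (τ y) ⊆ V}
  have hG1 : IsOpen G := by
    rw [isOpen_iff_forall_mem_open]
    rintro n ⟨y, hy, hn, hyV⟩
    exact ⟨Set.range (τ y), fun n' hn' => ⟨y, hy, hn', hyV⟩, (hclopen y hy).isOpen, hn⟩
  have hG2 : IsOpen Gᶜ := by
    rw [isOpen_iff_forall_mem_open]
    intro n hn
    obtain ⟨y, hy, hny⟩ := hcover n
    refine ⟨Set.range (τ y), ?_, (hclopen y hy).isOpen, hny⟩
    rintro n' hn' ⟨y', hy', hn'', hyV⟩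
    apply hn
    have hpc : _root_.IsPreconnected (Set.range (τ y)) := by
      rw [← Set.image_univ]
      exact isPreconnected_univ.image _ (τ y).continuous.continuousOn
    have hsub : Set.range (τ y) ⊆ Set.range (τ y') :=
      hpc.subset_isClopen (hclopen y' hy') ⟨n', hn', hn''⟩
    exact ⟨y', hy', hsub hny, hyV⟩
  refine ⟨h ⁻¹' G, ⟨?_, hG1.preimage h.continuous⟩, ?_⟩
  · rw [← isOpen_compl_iff, ← Set.preimage_compl]
    exact hG2.preimage h.continuous
  · ext v
    constructor
    · rintro ⟨y, hy, hn, hyV⟩
      apply hyV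
      rw [Set.mem_preimage, Scheme.Hom.comp_apply]
      exact hn
    · intro hv
      obtain ⟨y, hy, hny⟩ := hcover (h (q v))
      refine ⟨y, hy, hny, ?_⟩
      refine (hconn y hy).subset_isClopen hV ⟨v, ?_, hv⟩
      rw [Set.mem_preimage, Scheme.Hom.comp_apply]
      exact hny

theorem main (A : Type u) [CommRing A] [HenselianLocalRing A]
    [IsSepClosed (IsLocalRing.ResidueField A)] {X : Scheme.{u}} (f : X ⟶ Spec (CommRingCat.of A))
    [IsProper f] [Flat f] [LocallyOfFinitePresentation f] [GeometricallyReduced f]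
    (Ω : Type u) [Field Ω] (t : Spec (CommRingCat.of Ω) ⟶ Spec (CommRingCat.of A)) :
    (FEt.restrict (pullback.fst f t)).Full ∧ (FEt.restrict (pullback.fst f t)).Faithful := by
  have key : ∀ T : FEt.Cat X, ∃ (r : pullback T.hom (pullback.fst f t) ⟶ Spec (CommRingCat.of Ω)),
      IsPullback (pullback.fst T.hom (pullback.fst f t)) r (T.hom ≫ f) t := by
    intro T
    refine ⟨pullback.snd _ _ ≫ pullback.snd f t, ?_⟩
    have e1 := IsPullback.of_hasPullback T.hom (pullback.fst f t)
    have e2 := IsPullback.of_hasPullback f t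
    exact e1.paste_vert e2
  refine Groth.Agent.Pi1A.ClopenCrit.restrict_fullyFaithful_of_isClopen _ (fun T U hU hUe => ?_)
    (fun T V hV => ?_)
  · obtain ⟨r, sq⟩ := key T
    have hT1 : IsFinite T.hom := T.prop.1
    have hT2 : Etale T.hom := T.prop.2
    by_contra hne
    obtain ⟨z, hz⟩ := Set.nonempty_iff_ne_empty.2 hne
    let g : T.left ⟶ Spec (CommRingCat.of A) := T.hom ≫ f
    have hgp : IsProper g := inferInstanceAs (IsProper (T.hom ≫ f))
    have hgf : Flat g := inferInstanceAs (Flat (T.hom ≫ f))
    have hgl : LocallyOfFinitePresentation g :=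
      inferInstanceAs (LocallyOfFinitePresentation (T.hom ≫ f))
    have hA : ConnectedSpace ↥(Spec (CommRingCat.of A)) := connectedSpace_spec A
    have hcl : IsClopen (g '' U) :=
      ⟨g.isClosedMap _ hU.isClosed, g.isOpenMap _ hU.isOpen⟩
    have huniv : g '' U = Set.univ := hcl.eq_univ ⟨g z, z, hz, rfl⟩
    let x : Spec (CommRingCat.of Ω) := (⊥ : PrimeSpectrum Ω)
    have hx : t x ∈ g '' U := by rw [huniv]; trivial
    obtain ⟨z', hz', hz''⟩ := hx
    have : z' ∈ Set.range (pullback.fst T.hom (pullback.fst f t)) := by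
      have := sq.isoPullback_hom_fst
      have hsj : Function.Surjective sq.isoPullback.hom := sq.isoPullback.hom.surjective
      rw [← this, Scheme.Hom.comp_base, TopCat.coe_comp, Set.range_comp,
        Set.range_eq_univ.2 hsj, Set.image_univ, Scheme.Pullback.range_fst]
      exact ⟨x, hz''.symm⟩
    obtain ⟨v, hv⟩ := this
    have : v ∈ (pullback.fst T.hom (pullback.fst f t)) ⁻¹' U := by
      change _ ∈ U
      rw [hv]; exact hz'
    rw [hUe] at this
    exact this
  · obtain ⟨r, sq⟩ := key T
    have hT1 : IsFinite T.hom := T.prop.1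
    have hT2 : Etale T.hom := T.prop.2
    have : GeometricallyReduced (T.hom ≫ f) :=
      Groth.Agent.Etcore.SmoothRed.geometricallyReduced_comp T.hom f
    exact exists_isClopen (T.hom ≫ f) t _ r sq V hV

end Groth.Agent.Pi1.H381.SpecConn
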